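import Groth.Agent.Lib.MinModel32.Seq
import Groth.Agent.Lib.IndexMult.Fibre
import Groth.Agent.Lib.RegLoc.Sop
import Groth.Agent.Lib.ArInter.ChainGen
import Groth.Agent.Lib.ArInter.Geometric
import Groth.Agent.Lib.EnriquesSeveri11.ProjFacts
import Groth.Agent.S3327
import Mathlib

/-!
# Contracting one of two meeting exceptional curves leaves a projective line
-/

set_option autoImplicit false
set_option linter.style.haveILetI false
set_option linter.unusedSectionVars false
set_option backward.isDefEq.respectTransparency false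
set_option maxHeartbeats 1600000

universe u

open CategoryTheory CategoryTheory.Limits AlgebraicGeometry TopologicalSpace

noncomputable section

namespace Groth.Agent.MinGenus0

open Groth.Agent.MinModel (toGen)

variable {R : Type u} [CommRing R] [IsDomain R] [IsDiscreteValuationRing R]

variable (R) in
/-- The inclusion of the closed point of the base. -/
abbrev toClosed : Spec (CommRingCat.of (IsLocalRing.ResidueField R)) ⟶ Spec (CommRingCat.of R) :=
  Spec.map (CommRingCat.ofHom (algebraMap R (IsLocalRing.ResidueField R)))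

variable (R) in
/-- The closed fibre is a projective line over the residue field. -/
def P1Fibre (X : Scheme.{u}) (p : X ⟶ Spec (CommRingCat.of R)) : Prop :=
  ∃ e : Models.specialFibre R X p ≅ CohB1.ProjSpace 1 (IsLocalRing.ResidueField R),
    e.hom ≫ CohB1.ProjSpace.toSpec 1 (IsLocalRing.ResidueField R) = pullback.snd p (toClosed R)

theorem P1Fibre.of_iso {X Y : Scheme.{u}} (e : X ≅ Y) {q : Y ⟶ Spec (CommRingCat.of R)}
    (h : P1Fibre R X (e.hom ≫ q)) : P1Fibre R Y q := by
  obtain ⟨a, ha⟩ := h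
  let i := pullback.map (e.hom ≫ q) (toClosed R) q (toClosed R) e.hom (𝟙 _) (𝟙 _) (by simp) (by simp)
  haveI : IsIso i := inferInstance
  refine ⟨(asIso i).symm ≪≫ a, ?_⟩
  rw [Iso.trans_hom, Iso.symm_hom, asIso_inv, Category.assoc, IsIso.inv_comp_eq]
  exact ha.trans (by simp [i, pullback.lift_snd])

variable {C : Scheme.{u}} {f : C ⟶ Spec (CommRingCat.of (FractionRing R))}

/-- An irreducible closed fibre contains no exceptional curve. -/
theorem not_exc_of_irreducible (hC : Curve.IsSmoothProperCurve (FractionRing R) C f) (hH0 : IsIso f.appTop)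
    {X : Scheme.{u}} {p : X ⟶ Spec (CommRingCat.of R)} (hX : Models.IsRegularProperModel R X p C f)
    (hirr : IsIrreducible (Models.specialFibreSet R (Over.mk p))) {E : Scheme.{u}} (ι : E ⟶ X)
    [IsClosedImmersion ι] (hι : Models.IsExcCurve ι)
    (hE : Set.range ι ⊆ Models.specialFibreSet R (Over.mk p)) : False := by
  classical
  obtain ⟨n, Γ, hΓ⟩ := MinModel.exists_componentList hC hX hH0
  obtain ⟨i, hi, -⟩ := MinModel.isExcCurve_index hC hX hΓ ι hι hE
  have hall : ∀ l, Set.range (Γ l).ι.base = Models.specialFibreSet R (Over.mk p) := fun l => by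
    have h : Maximal (fun S : Set X => IsIrreducible S ∧ S ⊆ Models.specialFibreSet R (Over.mk p))
        (Set.range (Γ l).ι.base) := hΓ.2.le ⟨l, rfl⟩
    exact h.eq_of_le ⟨hirr, subset_rfl⟩ h.prop.2
  haveI : Subsingleton (Fin n) := ⟨fun a b => hΓ.1 ((hall a).trans (hall b).symm)⟩
  have hS := ArInter.isSurf_of_model hC hX
  have hE' := fun l => ArInter.isEffCartierIdeal_component hS.pre hX.2.2 hΓ l
  let L : Fin n → X.Modules := fun l => M2.dualMod (ClSub.idealMod (Γ l).ι.ker)
  have hL : ∀ l, ClSub.IsInverseOf (L l) (ClSub.idealMod (Γ l).ι.ker) :=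
    fun l => ⟨M2.dualTensorIso (M2.isInvertible_idealMod _ (hE' l))⟩
  obtain ⟨-, hii⟩ := ArInter.numerics_of_isExcCurve hS (Γ i) (hE' i) (hL i) hi
  have hw : (0 : ℤ) < Models.wdeg R (Over.mk p) (Γ i) :=
    Int.natCast_pos.mpr (S3322.wdeg_dvd_finrank R hS (Γ i)).1
  obtain ⟨π, hπ⟩ := IsDiscreteValuationRing.exists_irreducible R
  obtain ⟨a, Q, hZ, hQ, ha, hno⟩ := ArInter.exists_decomp hS.pre hπ Γ hE' hΓ.1
  obtain rfl := ArInter.eq_top_of_cover hS.pre hπ Γ hE'
    (fun x hx => ⟨i, (hall i).ge hx⟩) hZ hQ hno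
  have h := ArInter.sum_mul_inter hS hπ Γ L hL hZ hQ (Γ i)
  rw [ArInter.ideg_top hS, Fintype.sum_subsingleton _ i, hii] at h
  have := ha i
  nlinarith

section Meet

variable {Z Z₁ : Scheme.{u}} {p₁ : Z₁ ⟶ Spec (CommRingCat.of R)} {b : Z ⟶ Z₁}

/-- Contracting one of two meeting exceptional curves: the closed fibre becomes a projective line. -/
theorem p1Fibre_of_meet (hC : Curve.IsSmoothProperCurve (FractionRing R) C f) (hH0 : IsIso f.appTop)
    (hZ₁ : Models.IsRegularProperModel R Z₁ p₁ C f) (hZ : Models.IsRegularProperModel R Z (b ≫ p₁) C f)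
    {F : Scheme.{u}} (ι' : F ⟶ Z) [IsClosedImmersion ι'] (hF : Models.IsExcCurve ι')
    (hb : Models.IsContractionOf ι' b) {E : Scheme.{u}} (ι : E ⟶ Z) [IsClosedImmersion ι]
    (hι : Models.IsExcCurve ι) (hE : Set.range ι ⊆ Models.specialFibreSet R (Over.mk (b ≫ p₁)))
    (hne : Set.range ι ≠ Set.range ι') (hmeet : ¬ Disjoint (Set.range ι) (Set.range ι')) :
    P1Fibre R Z₁ p₁ ∧ IsIrreducible (Models.specialFibreSet R (Over.mk p₁)) := by
  classical
  haveI := hZ₁.2.1; haveI := hZ.2.1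
  haveI := MinModel.isNoetherian hZ; haveI := MinModel.isNoetherian hZ₁
  obtain ⟨hN, hbp, y, hy, hrange, hreg, hdim, hblow⟩ := id hb
  haveI := hbp; haveI := hreg
  let U : Z₁.Opens := ⟨{y}ᶜ, hy.isOpen_compl⟩
  haveI : IsIso (b ∣_ U) := PointBlowUp.isIso_restrict hy hblow
  have hF' : ∀ w, b (ι' w) = y := fun w => by
    have : (ι' ≫ b) w ∈ Set.range ((ι' ≫ b).base : F → Z₁) := ⟨w, rfl⟩
    rw [hrange] at this
    exact this
  have hFr : Set.range ι' ⊆ Models.specialFibreSet R (Over.mk (b ≫ p₁)) := by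
    rintro _ ⟨w, rfl⟩
    show p₁ (b (ι' w)) = IsLocalRing.closedPoint R
    rw [hF' w]
    exact MinModel.closed_over p₁ hy
  obtain ⟨n, Γ, hΓ⟩ := MinModel.exists_componentList hC hZ hH0
  obtain ⟨i, hi, hir⟩ := MinModel.isExcCurve_index hC hZ hΓ ι hι hE
  obtain ⟨j, hj, hjr⟩ := MinModel.isExcCurve_index hC hZ hΓ ι' hF hFr
  have hij : i ≠ j := fun h => hne (hir.trans (h ▸ hjr.symm))
  obtain ⟨hn, hm, hP, ⟨x, hxint, hxker, hxres⟩, -⟩ :=
    S3327.result R C Z f _ hC hH0 hZ Γ hΓ i j hij hi hj (by rw [← hir, ← hjr]; exact hmeet)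
  -- only two components
  have htwo : ∀ l, l = i ∨ l = j := fun l => by
    by_contra h
    push Not at h
    have : (({l, i, j} : Finset (Fin n))).card ≤ n := (Finset.card_le_univ _).trans_eq (Fintype.card_fin n)
    rw [Finset.card_insert_of_notMem (by simp [h.1, h.2]), Finset.card_pair hij] at this
    omega
  have hS := ArInter.isSurf_of_model hC hZ
  have hEC := fun l => ArInter.isEffCartierIdeal_component hS.pre hZ.2.2 hΓ l
  have hcov := ArInter.cover_of_isComponentList hΓ
  let Eᵢ := (Γ i).curve.left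
  let κ : Eᵢ ⟶ Z := (Γ i).ι
  haveI : IsClosedImmersion κ := (Γ i).isClosedImmersion
  haveI : IsIntegral Eᵢ := (Γ i).isIntegral
  have hκinj : Function.Injective κ := κ.isClosedEmbedding.injective
  have hjy : ∀ z ∈ Set.range (Γ j).ι.base, b z = y := fun z hz => by
    obtain ⟨w, rfl⟩ : z ∈ Set.range ι' := hjr.ge hz
    exact hF' w
  have hyj : ∀ z, b z = y → z ∈ Set.range (Γ j).ι.base := fun z hz =>
    hjr.le (PointBlowUp.mem_range_of_over b hy hblow hdim ι' hF hF' hz)
  have hxi : x ∈ Set.range κ := (hxint.ge rfl).1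
  have hxj : x ∈ Set.range (Γ j).ι.base := (hxint.ge rfl).2
  obtain ⟨x₀, hx₀⟩ := hxi
  have hbx : b x = y := hjy x hxj
  have hout : ∀ w : Eᵢ, w ≠ x₀ → b (κ w) ≠ y := fun w hw h => hw (hκinj (by
    have : κ w ∈ ({x} : Set Z) := hxint.le ⟨⟨w, rfl⟩, hyj _ h⟩
    rw [hx₀]
    exact this))
  let F₀ := Models.specialFibre R Z₁ p₁
  let π₁ : F₀ ⟶ Z₁ := pullback.fst p₁ (toClosed R)
  haveI : IsClosedImmersion (toClosed R) :=
    IsClosedImmersion.spec_of_surjective _ IsLocalRing.residue_surjective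
  haveI : IsClosedImmersion π₁ := MorphismProperty.pullback_fst _ _ inferInstance
  let c₀ : Eᵢ ⟶ F₀ := pullback.lift (κ ≫ b) (Γ i).curve.hom (by rw [Category.assoc]; exact (Γ i).w)
  have hc₀ : c₀ ≫ π₁ = κ ≫ b := pullback.lift_fst _ _ _
  have hc₀' : c₀ ≫ pullback.snd p₁ (toClosed R) = (Γ i).curve.hom := pullback.lift_snd _ _ _
  have hπinj : Function.Injective π₁ := π₁.isClosedEmbedding.injective
  have happ : ∀ w, π₁ (c₀ w) = b (κ w) := fun w => by
    rw [← Scheme.Hom.comp_apply, hc₀, Scheme.Hom.comp_apply]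
  have hπfib : ∀ z, p₁ (π₁ z) = IsLocalRing.closedPoint R := fun z => by
    rw [← Scheme.Hom.comp_apply, pullback.condition, Scheme.Hom.comp_apply]
    apply PrimeSpectrum.ext
    show Ideal.comap (IsLocalRing.residue R) _ = IsLocalRing.maximalIdeal R
    refine Eq.trans (congrArg (Ideal.comap (IsLocalRing.residue R)) ?_)
      ((RingHom.ker_eq_comap_bot _).symm.trans IsLocalRing.ker_residue)
    exact (Ideal.eq_bot_or_top _).resolve_right (Ideal.IsPrime.ne_top (PrimeSpectrum.isPrime _))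
  -- the lift is bijective
  have hsurj : Function.Surjective c₀ := fun z => by
    suffices h : ∃ w, b (κ w) = π₁ z by
      obtain ⟨w, hw⟩ := h
      exact ⟨w, hπinj ((happ w).trans hw)⟩
    by_cases hzy : π₁ z = y
    · exact ⟨x₀, by rw [hx₀, hbx, hzy]⟩
    obtain ⟨v, hv⟩ := (b ∣_ U).surjective ⟨π₁ z, hzy⟩
    have hbv : b ((b ⁻¹ᵁ U).ι v) = π₁ z := by
      rw [← Scheme.Hom.comp_apply, ← morphismRestrict_ι, Scheme.Hom.comp_apply, hv]
      rfl
    obtain ⟨l, w, hw⟩ := hcov ((b ⁻¹ᵁ U).ι v) (by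
      show p₁ (b _) = _
      rw [hbv]
      exact hπfib z)
    rcases htwo l with rfl | rfl
    · exact ⟨w, by rw [show κ w = _ from hw, hbv]⟩
    · exact (hzy (hbv ▸ hjy _ ⟨w, hw⟩)).elim
  have hinj : Function.Injective c₀ := fun w w' h => by
    have h' : b (κ w) = b (κ w') := by rw [← happ, ← happ, h]
    by_cases hw : w = x₀ <;> by_cases hw' : w' = x₀
    · rw [hw, hw']
    · exact (hout w' hw' (by rw [← h', hw, hx₀, hbx])).elim
    · exact (hout w hw (by rw [h', hw', hx₀, hbx])).elim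
    · exact hκinj (PointBlowUp.eq_of_ne hy hblow (hout w hw) h')
  obtain ⟨π, hπ⟩ := IsDiscreteValuationRing.exists_irreducible R
  obtain ⟨a, Q, hZd, hQ, -, hno⟩ := ArInter.exists_decomp hS.pre hπ Γ hEC hΓ.1
  have ha : ∀ l, a l = 1 := fun l => (ArInter.mult_eq hS.pre hπ Γ hEC hΓ.1 hZd hno l).symm.trans (hm l)
  obtain rfl := ArInter.eq_top_of_cover hS.pre hπ Γ hEC hcov hZd hQ hno
  have hfib : ∀ z : Z, Ideal.span {Models.stalkHom R (Over.mk (b ≫ p₁)) z π} =
      DivDesc12.stI (Γ i).ι.ker z * DivDesc12.stI (Γ j).ι.ker z := fun z => by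
    rw [← ArInter.stI_fibreIdeal, hZd, ArInter.stI_mul, DivDesc12.stI_top, Ideal.mul_top,
      ArInter.stI_finsetProd]
    have hu : (Finset.univ : Finset (Fin n)) = {i, j} := Finset.ext fun l => by simpa using htwo l
    rw [hu, Finset.prod_pair hij, ha, ha, pow_one, pow_one]
  have hstalk : ∀ z : Z, (b.stalkMap z).hom (Models.stalkHom R (Over.mk p₁) (b z) π) =
      Models.stalkHom R (Over.mk (b ≫ p₁)) z π := fun z => by
    rw [ArInter.stalkHom_eq, ArInter.stalkHom_eq, Scheme.Hom.stalkMap_comp]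
    rfl
  -- away from the meeting point the stalk maps are bijective
  have hbij : ∀ w : Eᵢ, w ≠ x₀ → Function.Bijective (c₀.stalkMap w).hom := fun w hw => by
    have hbw : Function.Bijective (b.stalkMap (κ w)).hom := by
      haveI : IsIso (b.stalkMap (κ w)) := ((MorphismProperty.isomorphisms CommRingCat.{u}).arrow_mk_iso_iff
        (morphismRestrictStalkMap b U ⟨κ w, hout w hw⟩)).1
          (inferInstanceAs (IsIso ((b ∣_ U).stalkMap ⟨κ w, hout w hw⟩)))
      exact ConcreteCategory.bijective_of_isIso (b.stalkMap (κ w))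
    have hcomp : Function.Surjective ((c₀ ≫ π₁).stalkMap w).hom := by
      rw [hc₀, Scheme.Hom.stalkMap_comp, CommRingCat.hom_comp, RingHom.coe_comp]
      exact (κ.stalkMap_surjective w).comp hbw.2
    refine ⟨(injective_iff_map_eq_zero _).2 fun t ht => ?_, ?_⟩
    · obtain ⟨t', rfl⟩ := π₁.stalkMap_surjective (c₀ w) t
      have h0 : ((c₀ ≫ π₁).stalkMap w).hom t' = 0 := by
        rw [Scheme.Hom.stalkMap_comp]; exact ht
      rw [← RingHom.mem_ker] at h0 ⊢
      have hk := ArInter.ker_stalkMap_fst_fibre (X := Over.mk p₁) hπ (c₀ w)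
      refine hk.ge ?_
      have h1 : ∀ (m : Eᵢ ⟶ Z₁), c₀ ≫ π₁ = m → ∀ t'', ((c₀ ≫ π₁).stalkMap w).hom t'' = 0 →
          RingHom.ker (m.stalkMap w).hom ≤ Ideal.span {Models.stalkHom R (Over.mk p₁) (m w) π} →
          t'' ∈ Ideal.span {Models.stalkHom R (Over.mk p₁) (π₁ (c₀ w)) π} := by
        rintro m rfl t'' ht'' hm
        exact hm (RingHom.mem_ker.2 ht'')
      refine h1 _ hc₀ t' h0 ?_
      rw [Scheme.Hom.stalkMap_comp, CommRingCat.hom_comp, ← RingHom.comap_ker]
      have hkκ : RingHom.ker (κ.stalkMap w).hom = DivDesc12.stI (Γ i).ι.ker (κ w) := by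
        obtain ⟨O, hO, hwO, -⟩ := exists_isAffineOpen_mem_and_subset (X := Z) (x := κ w) (U := ⊤) trivial
        rw [DivDesc12.stI_eq _ ⟨O, hO⟩ hwO, RegImm26.ker_stalkMap_eq κ w hO hwO, Scheme.Hom.ker_apply]
      have htop : DivDesc12.stI (Γ j).ι.ker (κ w) = ⊤ := ArInter.stI_eq_top_of_notMem fun h =>
        hout w hw (hjy _ ((ArInter.coe_support_ker (Γ j)).le h))
      have hfw := hfib (κ w)
      rw [htop, Ideal.mul_top, ← hstalk] at hfw
      rw [hkκ, ← hfw]
      intro u hu
      obtain ⟨c, hc⟩ := Ideal.mem_span_singleton'.1 (Ideal.mem_comap.1 hu)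
      obtain ⟨c', rfl⟩ := hbw.2 c
      exact Ideal.mem_span_singleton'.2 ⟨c', hbw.1 ((map_mul _ _ _).trans hc)⟩
    · intro t
      obtain ⟨t', ht'⟩ := hcomp t
      exact ⟨(π₁.stalkMap (c₀ w)).hom t', by rw [← ht', Scheme.Hom.stalkMap_comp]; rfl⟩
  -- the uniformizer has order one at the contracted point
  have hord : Models.stalkHom R (Over.mk p₁) y π ∉ IsLocalRing.maximalIdeal (Z₁.presheaf.stalk y) ^ 2 := by
    intro hsq
    have hv : (Scheme.IdealSheafData.vanishingIdeal ⟨{y}, hy⟩).comap b ≤ (Γ j).ι.ker := by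
      rw [RedSepLib.ker_eq_vanishingIdeal]
      refine Scheme.IdealSheafData.le_support_iff_le_vanishingIdeal.mp ?_
      rw [Scheme.IdealSheafData.support_comap]
      intro z hz
      obtain ⟨w, rfl⟩ : z ∈ Set.range (Γ j).ι.base := by
        have : IsClosed (Set.range (Γ j).ι.base) := (Γ j).ι.isClosedEmbedding.isClosed_range
        exact (this.closure_eq.le hz)
      exact (PointBlowUp.coe_support_ptIdeal hy).ge (hjy _ ⟨w, rfl⟩)
    have hmle : (IsLocalRing.maximalIdeal (Z₁.presheaf.stalk (b x))).map (b.stalkMap x).hom ≤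
        DivDesc12.stI (Γ j).ι.ker x := by
      have hst : DivDesc12.stI (Scheme.IdealSheafData.vanishingIdeal ⟨{y}, hy⟩) (b x) =
          IsLocalRing.maximalIdeal _ := by
        subst hbx
        exact PointBlowUp.stI_ptIdeal hy
      rw [← hst, ← DivDesc12.stI_comap]
      obtain ⟨O, hO, hxO, -⟩ := exists_isAffineOpen_mem_and_subset (X := Z) (x := x) (U := ⊤) trivial
      rw [DivDesc12.stI_eq _ ⟨O, hO⟩ hxO, DivDesc12.stI_eq _ ⟨O, hO⟩ hxO]
      exact Ideal.map_mono (hv ⟨O, hO⟩)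
    have hsq' : Models.stalkHom R (Over.mk p₁) (b x) π ∈ IsLocalRing.maximalIdeal _ ^ 2 := by
      subst hbx; exact hsq
    have hπsq : Models.stalkHom R (Over.mk (b ≫ p₁)) x π ∈ DivDesc12.stI (Γ j).ι.ker x ^ 2 := by
      rw [← hstalk]
      exact Ideal.pow_right_mono hmle 2 (by rw [← Ideal.map_pow]; exact Ideal.mem_map_of_mem _ hsq')
    obtain ⟨Oi, hOi, ei, hei, hein, -, -⟩ := SecDiv.exists_stalk_eqn (hEC i)
      ((ArInter.coe_support_ker (Γ i)).ge (hxint.ge rfl).1)
    obtain ⟨Oj, hOj, ej, hej, hejn, -, -⟩ := SecDiv.exists_stalk_eqn (hEC j)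
      ((ArInter.coe_support_ker (Γ j)).ge hxj)
    let e₁ := Z.presheaf.germ Oi.1 x hOi ei
    let e₂ := Z.presheaf.germ Oj.1 x hOj ej
    have hi' : DivDesc12.stI (Γ i).ι.ker x = Ideal.span {e₁} := by
      rw [DivDesc12.stI_eq _ Oi hOi, hei, Ideal.map_span, Set.image_singleton]; rfl
    have hj' : DivDesc12.stI (Γ j).ι.ker x = Ideal.span {e₂} := by
      rw [DivDesc12.stI_eq _ Oj hOj, hej, Ideal.map_span, Set.image_singleton]; rfl
    have hle : Ideal.span {e₁ * e₂} ≤ Ideal.span {e₂ * e₂} := by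
      rw [← Ideal.span_singleton_mul_span_singleton, ← hi', ← hj', ← hfib, Ideal.span_singleton_le_iff_mem]
      rw [hj', Ideal.span_singleton_pow, pow_two] at hπsq
      exact hπsq
    obtain ⟨d, hd⟩ := Ideal.span_singleton_le_span_singleton.1 hle
    have hde : e₁ = e₂ * d := by
      have : e₂ * e₁ = e₂ * (e₂ * d) := by rw [mul_comm, hd]; ring
      exact (mul_cancel_left_mem_nonZeroDivisors hejn).1 this
    have hmax : IsLocalRing.maximalIdeal (Z.presheaf.stalk x) = Ideal.span {e₂} := by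
      obtain ⟨O, hO, hxO, -⟩ := exists_isAffineOpen_mem_and_subset (X := Z) (x := x) (U := ⊤) trivial
      have hcl : IsClosed ({x} : Set Z) := by
        rw [← hxint]
        exact κ.isClosedEmbedding.isClosed_range.inter (Γ j).ι.isClosedEmbedding.isClosed_range
      have h1 := PointBlowUp.stI_ptIdeal hcl
      have h2 : PointBlowUp.ptIdeal hcl = (Γ i).ι.ker ⊔ (Γ j).ι.ker := by
        rw [hxker]
        exact congrArg Scheme.IdealSheafData.vanishingIdeal (Closeds.ext hcl.closure_eq.symm)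
      rw [← h1, h2, DivDesc12.stI_eq _ ⟨O, hO⟩ hxO, Scheme.IdealSheafData.ideal_sup, Pi.sup_apply,
        Ideal.map_sup, ← DivDesc12.stI_eq _ ⟨O, hO⟩ hxO, ← DivDesc12.stI_eq _ ⟨O, hO⟩ hxO, hi', hj',
        sup_eq_right, Ideal.span_singleton_le_span_singleton]
      exact ⟨d, hde⟩
    haveI : IsLocallyNoetherian (Over.mk (b ≫ p₁)).left := inferInstanceAs (IsLocallyNoetherian Z)
    have h2 := SecDiv.two_le_of_specializes
      (specializes_iff_mem_closure.2 ((ArInter.range_eq_closure (Γ j)).le hxj))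
      (fun h => ArInter.genPtOf_notMem_range hS.pre (hEC j) (hEC i) (fun hr => hij (hΓ.1 hr).symm)
        (h ▸ (hxint.ge rfl).1))
      (ArInter.ringKrullDim_genPtOf hS.pre (hEC j))
    haveI : IsNoetherianRing (Z.presheaf.stalk x) := inferInstance
    have h1 := ringKrullDim_le_spanFinrank_maximalIdeal (R := Z.presheaf.stalk x)
    have h3 : (IsLocalRing.maximalIdeal (Z.presheaf.stalk x)).spanFinrank ≤ 1 := by
      rw [hmax]
      exact (Submodule.spanFinrank_span_le_ncard_of_finite (Set.finite_singleton _)).trans (by simp)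
    have h4 : ringKrullDim (Z.presheaf.stalk x) ≤ 1 := h1.trans (by exact_mod_cast h3)
    exact absurd (h2.trans h4) (by decide)
  -- the fibre is normal
  have hnorm : Pi1.IsNormalScheme F₀ := fun z => by
    obtain ⟨w, rfl⟩ := hsurj z
    rcases eq_or_ne w x₀ with rfl | hw
    · have hcy : π₁ (c₀ w) = y := by rw [happ, hx₀, hbx]
      haveI : IsRegularLocalRing (Z₁.presheaf.stalk (π₁ (c₀ w))) := hZ₁.2.2 _
      have hmem : Models.stalkHom R (Over.mk p₁) (π₁ (c₀ w)) π ∈
          IsLocalRing.maximalIdeal (Z₁.presheaf.stalk (π₁ (c₀ w))) := by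
        have h := (ArInter.mem_support_fibreIdeal (X := Over.mk p₁) hπ (π₁ (c₀ w))).2 (hπfib _)
        by_contra hu
        have hnt : DivDesc12.stI (ArInter.fibreIdeal (Over.mk p₁) π) (π₁ (c₀ w)) ≠ ⊤ :=
          PointBlowUp.mem_support_iff_stI.1 h
        refine hnt ?_
        rw [ArInter.stI_fibreIdeal]
        exact Ideal.span_singleton_eq_top.2 (by simpa using hu)
      have hno2 : Models.stalkHom R (Over.mk p₁) (π₁ (c₀ w)) π ∉
          IsLocalRing.maximalIdeal (Z₁.presheaf.stalk (π₁ (c₀ w))) ^ 2 := by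
        subst hcy; exact hord
      obtain ⟨hq, -⟩ := RegLoc.quotient_span_singleton (R := Z₁.presheaf.stalk (π₁ (c₀ w))) hmem hno2
      let π₂ := pullback.fst (Over.mk p₁).hom (Spec.map (CommRingCat.ofHom (IsLocalRing.residue R)))
      haveI : IsRegularLocalRing ((Over.mk p₁).left.presheaf.stalk (π₂ (c₀ w)) ⧸
          Ideal.span {Models.stalkHom R (Over.mk p₁) (π₂ (c₀ w)) π}) := hq
      haveI : IsRegularLocalRing (F₀.presheaf.stalk (c₀ w)) := IsRegularLocalRing.of_ringEquiv ((Ideal.quotEquivOfEq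
        (ArInter.ker_stalkMap_fst_fibre (X := Over.mk p₁) hπ (c₀ w)).symm).trans
          (RingHom.quotientKerEquivOfSurjective (π₁.stalkMap_surjective (c₀ w))))
      exact RelMin.isDomain_normal
    · haveI : IsRegularLocalRing (Eᵢ.presheaf.stalk w) := by
        obtain ⟨e, -⟩ := hP i
        haveI : Smooth (CohB1.ProjSpace.toSpec 1 (IsLocalRing.ResidueField R)) := ProjSpace.smooth_toSpec 1 _
        haveI := SmoothReg17.isRegularLocalRing_stalk (CohB1.ProjSpace.toSpec 1 (IsLocalRing.ResidueField R)) (e.hom w)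
        exact IsRegularLocalRing.of_ringEquiv (asIso (e.hom.stalkMap w)).commRingCatIsoToRingEquiv
      haveI := IsRegularLocalRing.of_ringEquiv (RingEquiv.ofBijective _ (hbij w hw)).symm
      exact RelMin.isDomain_normal
  have hrc : IsIrreducible (Set.univ : Set F₀) := by
    rw [← hsurj.range_eq, ← Set.image_univ]
    exact (IrreducibleSpace.isIrreducible_univ _).image _ c₀.continuous.continuousOn
  haveI : PreirreducibleSpace F₀ := ⟨hrc.2⟩
  haveI : IrreducibleSpace F₀ := { toNonempty := hrc.1.elim fun z _ => ⟨z⟩ }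
  haveI : IsReduced F₀ := by
    haveI : ∀ z : F₀, IsReduced (F₀.presheaf.stalk z) := fun z => by
      haveI := (hnorm z).1; infer_instance
    exact isReduced_of_isReduced_stalk F₀
  haveI : IsIntegral F₀ := isIntegral_of_irreducibleSpace_of_isReduced F₀
  haveI : IsProper c₀ := by
    haveI : IsProper (Γ i).curve.hom := ArInter.isProper_curve hS (Γ i)
    haveI : IsSeparated (pullback.snd p₁ (toClosed R)) := MorphismProperty.pullback_snd _ _ inferInstance
    haveI : IsProper (c₀ ≫ pullback.snd p₁ (toClosed R)) := hc₀'.symm ▸ ‹_›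
    exact IsProper.of_comp c₀ (pullback.snd p₁ (toClosed R))
  have hgen : c₀ (genericPoint Eᵢ) = genericPoint F₀ := by
    refine ((genericPoint_spec F₀).eq ?_).symm
    have := (genericPoint_spec Eᵢ).image c₀.continuous
    rwa [Set.image_univ, hsurj.range_eq, closure_univ] at this
  have hx₀gen : genericPoint Eᵢ ≠ x₀ := fun h =>
    ArInter.genPtOf_notMem_range hS.pre (hEC i) (hEC j) (fun hr => hij (hΓ.1 hr))
      (show κ (genericPoint Eᵢ) ∈ _ by rw [h, hx₀]; exact hxj)
  haveI : IsIso (c₀.stalkMap (genericPoint Eᵢ)) :=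
    (ConcreteCategory.isIso_iff_bijective _).2 (hbij _ hx₀gen)
  haveI : IsIso c₀ := PointBlowUp.isIso_of_finite_fibres c₀ hnorm hgen
    fun z => (Set.subsingleton_singleton.preimage hinj).finite
  obtain ⟨e, he⟩ := hP i
  refine ⟨⟨(asIso c₀).symm ≪≫ e, ?_⟩, ?_⟩
  · rw [Iso.trans_hom, Iso.symm_hom, asIso_inv, Category.assoc, he, IsIso.inv_comp_eq, hc₀']
  · have hr : Models.specialFibreSet R (Over.mk p₁) = π₁ '' Set.univ := by
      rw [Set.image_univ]
      exact (ArInter.range_fst_fibre (X := Over.mk p₁)).symm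
    rw [hr]
    exact hrc.image _ π₁.continuous.continuousOn

end Meet

end Groth.Agent.MinGenus0
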