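import Groth.Agent.Lib.MinGenus0_32.Fibre
import Groth.Agent.Lib.MinModel32.Main
import Mathlib

/-!
# Minimal models which are not unique
-/

set_option autoImplicit false
set_option linter.style.haveILetI false
set_option linter.unusedSectionVars false
set_option backward.isDefEq.respectTransparency false
set_option maxHeartbeats 1000000

universe u

open CategoryTheory CategoryTheory.Limits AlgebraicGeometry TopologicalSpace

noncomputable section

namespace Groth.Agent.MinGenus0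

open Groth.Agent.MinModel hiding exc_contracted exists_descend exists_hom

variable {R : Type u} [CommRing R] [IsDomain R] [IsDiscreteValuationRing R]
  {C X : Scheme.{u}} {f : C ⟶ Spec (CommRingCat.of (FractionRing R))} {p : X ⟶ Spec (CommRingCat.of R)}

/-- A contraction sequence onto a minimal model contracts every exceptional curve, unless
the closed fibre is a projective line. -/
theorem exc_contracted (hC : Curve.IsSmoothProperCurve (FractionRing R) C f) (hH0 : IsIso f.appTop)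
    {Z X : Scheme.{u}} {h : Z ⟶ X}
    (hh : Models.IsContractionSeq h) :
    ∀ p : X ⟶ Spec (CommRingCat.of R), Models.IsMinimalModel R X p C f →
      ∀ {E : Scheme.{u}} (ι : E ⟶ Z) [IsClosedImmersion ι], Models.IsExcCurve ι →
        Set.range ι ⊆ Models.specialFibreSet R (Over.mk (h ≫ p)) →
          (∃ x, ∀ w, h (ι w) = x) ∨ P1Fibre R X p := by
  induction hh with
  | @iso Z X e =>
    intro p hX E ι _ hι hE
    exfalso
    obtain ⟨_, k, _, eE, _⟩ := id hι
    haveI : IsClosedImmersion (ι ≫ 𝟙 Z) := by rw [Category.comp_id]; infer_instance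
    have hr : Set.range (ι ≫ e.hom) ⊆ Models.specialFibreSet R (Over.mk p) := by
      rintro _ ⟨w, rfl⟩
      exact hE ⟨w, rfl⟩
    have h1 : Models.IsExcCurve (ι ≫ e.hom) := exc_transfer (𝟙 Z) e.hom ι
      (isEffCartierIdeal_line hC hX.1 hH0 (ι ≫ e.hom) eE hr) (by rwa [Category.comp_id])
    obtain ⟨n, Γ, hΓ⟩ := exists_componentList hC hX.1 hH0
    obtain ⟨i, hi, -⟩ := isExcCurve_index hC hX.1 hΓ (ι ≫ e.hom) h1 hr
    exact hX.2 (Γ i) hi
  | @step Z Z₁ X F ι' b r hι' hF hb hr ih =>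
    intro p hX E ι _ hι hE
    haveI := hι'
    haveI := hX.1.2.1
    have hZ₁ := model_of_seq hC hX.1 hr
    have hZ := model_of_seq hC hX.1 (Models.IsContractionSeq.step ι' b r hι' hF hb hr)
    haveI := hZ₁.2.1
    obtain ⟨hN, hbp, y, hy, hrange, hreg, hdim, hblow⟩ := id hb
    haveI := hN; haveI := hbp; haveI := hreg
    have hF' : ∀ w, b (ι' w) = y := fun w => by
      have : (ι' ≫ b) w ∈ Set.range ((ι' ≫ b).base : F → Z₁) := ⟨w, rfl⟩
      rw [hrange] at this
      exact this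
    have hFr : Set.range ι' ⊆ Models.specialFibreSet R (Over.mk ((b ≫ r) ≫ p)) := by
      rintro _ ⟨w, rfl⟩
      show (r ≫ p) (b (ι' w)) = IsLocalRing.closedPoint R
      rw [hF' w]
      exact closed_over (r ≫ p) hy
    obtain ⟨n, Γ, hΓ⟩ := exists_componentList hC hZ hH0
    obtain ⟨i, hi, hir⟩ := isExcCurve_index hC hZ hΓ ι hι hE
    obtain ⟨j, hj, hjr⟩ := isExcCurve_index hC hZ hΓ ι' hF hFr
    rcases eq_or_ne i j with rfl | hij
    · refine .inl ⟨r y, fun w => ?_⟩
      obtain ⟨w', hw'⟩ : ι w ∈ Set.range ι' := (hir.trans hjr.symm).le ⟨w, rfl⟩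
      rw [Scheme.Hom.comp_apply, ← hw', hF']
    by_cases hdis : Disjoint (Set.range ι) (Set.range ι')
    swap
    · obtain ⟨hP1, hirr⟩ := p1Fibre_of_meet hC hH0 hZ₁ (by rwa [← Category.assoc]) ι' hF hb ι hι
        (by rwa [← Category.assoc]) (fun h => hij (hΓ.1 (hir.symm.trans (h.trans hjr)))) hdis
      cases hr with
      | iso e => exact .inr (P1Fibre.of_iso e hP1)
      | @step _ Z₂ _ G ιG b' r' hιG hG hb' hr' =>
        exfalso
        haveI := hιG
        haveI := (model_of_seq hC hX.1 hr').2.1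
        obtain ⟨-, -, y', hy', hrange', -⟩ := id hb'
        refine not_exc_of_irreducible hC hH0 hZ₁ hirr ιG hG ?_
        rintro _ ⟨w, rfl⟩
        show (r' ≫ p) (b' (ιG w)) = IsLocalRing.closedPoint R
        have : (ιG ≫ b') w ∈ Set.range ((ιG ≫ b').base : G → Z₂) := ⟨w, rfl⟩
        rw [hrange'] at this
        rw [show b' (ιG w) = y' from this]
        exact closed_over (r' ≫ p) hy'
    have hout : ∀ w, b (ι w) ≠ y := fun w hw =>
      Set.disjoint_left.1 hdis ⟨w, rfl⟩ (PointBlowUp.mem_range_of_over b hy hblow hdim ι' hF hF' hw)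
    haveI := PointBlowUp.isIso_restrict hy hblow
    let U : Z₁.Opens := ⟨{y}ᶜ, hy.isOpen_compl⟩
    haveI : IsIso (b ∣_ U) := PointBlowUp.isIso_restrict hy hblow
    have hW : Set.range ι ⊆ Set.range (b ⁻¹ᵁ U).ι := by
      rw [Scheme.Opens.range_ι]
      rintro _ ⟨w, rfl⟩
      exact hout w
    let ι₀ := IsOpenImmersion.lift (b ⁻¹ᵁ U).ι ι hW
    have hι₀ : ι₀ ≫ (b ⁻¹ᵁ U).ι = ι := IsOpenImmersion.lift_fac _ _ _
    haveI : IsClosedImmersion (ι₀ ≫ (b ⁻¹ᵁ U).ι) := hι₀.symm ▸ ‹IsClosedImmersion ι›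
    haveI : IsClosedImmersion ι₀ := IsClosedImmersion.of_comp ι₀ (b ⁻¹ᵁ U).ι
    let k := (b ∣_ U) ≫ U.ι
    have hk : ι₀ ≫ k = ι ≫ b := by
      rw [show k = (b ⁻¹ᵁ U).ι ≫ b from morphismRestrict_ι b U, ← Category.assoc, hι₀]
    haveI : IsClosedImmersion (ι ≫ b) := by
      haveI : IsPreimmersion (ι ≫ b) := by rw [← hk]; infer_instance
      refine IsClosedImmersion.of_isPreimmersion _ ?_
      rw [Scheme.Hom.comp_base, TopCat.coe_comp, Set.range_comp]
      exact b.isClosedMap _ ι.isClosedEmbedding.isClosed_range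
    haveI : IsClosedImmersion (ι₀ ≫ k) := by rw [hk]; infer_instance
    have hr1 : Set.range (ι ≫ b) ⊆ Models.specialFibreSet R (Over.mk (r ≫ p)) := by
      rintro _ ⟨w, rfl⟩
      exact hE ⟨w, rfl⟩
    obtain ⟨_, kE, _, eE, _⟩ := id hι
    have hexc : Models.IsExcCurve (ι₀ ≫ k) := by
      refine exc_transfer (b ⁻¹ᵁ U).ι k ι₀ ?_ (by rw [hι₀]; exact hι)
      rw [hk]
      exact isEffCartierIdeal_line hC hZ₁ hH0 (ι ≫ b) eE hr1
    rw [hk] at hexc
    exact (ih p hX (ι ≫ b) hexc hr1).imp (fun ⟨x, hx⟩ => ⟨x, fun w => hx w⟩) id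

section Factor

variable (hC : Curve.IsSmoothProperCurve (FractionRing R) C f) (hH0 : IsIso f.appTop)
  (hX : Models.IsMinimalModel R X p C f)

include hC hH0 hX in
/-- A modification mapping to a minimal model descends to every model below it. -/
theorem exists_descend {gX : C ⟶ X} (hgX : IsPullback gX f p (toGen R)) {Z Y : Scheme.{u}} {b : Z ⟶ Y}
    (hb : Models.IsContractionSeq b) :
    ∀ q : Y ⟶ Spec (CommRingCat.of R), Models.IsRegularProperModel R Y q C f →
      ∀ (h : Z ⟶ X) (gZ : C ⟶ Z), IsPullback gZ f (b ≫ q) (toGen R) → h ≫ p = b ≫ q → gZ ≫ h = gX →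
        (∃ ψ : Y ⟶ X, b ≫ ψ = h) ∨ P1Fibre R X p := by
  induction hb with
  | @iso Z Y e => exact fun q _ h gZ _ _ _ => .inl ⟨e.inv ≫ h, by simp⟩
  | @step Z Z₁ Y E ι c r hι hE hc hr ih =>
    intro q hY h gZ hgZ hw hg'
    haveI := hι
    haveI := hY.2.1
    have hZ₁ := model_of_seq hC hY hr
    have hZ := model_of_seq hC hY (Models.IsContractionSeq.step ι c r hι hE hc hr)
    haveI := hZ₁.2.1
    have hseq : Models.IsContractionSeq h := seq_of_hom hC hX.1 hZ h hw hgZ hgX hg'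
    obtain ⟨hN, hcp, y, hy, hrange, -⟩ := id hc
    have hEr : Set.range ι ⊆ Models.specialFibreSet R (Over.mk (h ≫ p)) := by
      rintro _ ⟨w, rfl⟩
      show (h ≫ p) (ι w) = IsLocalRing.closedPoint R
      have : (ι ≫ c) w ∈ Set.range ((ι ≫ c).base : E → Z₁) := ⟨w, rfl⟩
      rw [hrange] at this
      rw [hw]
      show (r ≫ q) ((ι ≫ c) w) = IsLocalRing.closedPoint R
      rw [show (ι ≫ c) w = y from this]
      exact closed_over (r ≫ q) hy
    rcases exc_contracted hC hH0 hseq p hX ι hE hEr with ⟨x, hx⟩ | hP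
    swap
    · exact .inr hP
    obtain ⟨ψ₁, hψ₁, -⟩ := PointBlowUp.contraction_universal ι hE c hc h x hx
    obtain ⟨_, _, huniq⟩ := PointBlowUp.contraction_universal ι hE c hc (h ≫ p) (p x)
      (fun w => congrArg p (hx w))
    have hw₁ : ψ₁ ≫ p = r ≫ q :=
      (huniq (ψ₁ ≫ p) (by show c ≫ ψ₁ ≫ p = _; rw [← Category.assoc, hψ₁])).trans
        (huniq (r ≫ q) (by show c ≫ r ≫ q = _; rw [hw, Category.assoc])).symm
    have hc1 := genIso_of_seq (Models.IsContractionSeq.step ι c (Iso.refl Z₁).hom hι hE hc (.iso (Iso.refl Z₁)))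
      (r ≫ q) hZ₁.2.1
    rw [Iso.refl_hom, Category.comp_id] at hc1
    haveI := hc1.2
    have hgZ₁ : IsPullback (gZ ≫ c) f (r ≫ q) (toGen R) :=
      gen_down c (by rwa [← Category.assoc])
    exact (ih q hY ψ₁ (gZ ≫ c) hgZ₁ hw₁ (by rw [Category.assoc, hψ₁, hg'])).imp
      (fun ⟨ψ, hψ⟩ => ⟨ψ, by rw [Category.assoc, hψ, hψ₁]⟩) id

include hC hH0 hX in
/-- The mapping property. -/
theorem exists_hom {Y : Scheme.{u}} {q : Y ⟶ Spec (CommRingCat.of R)}
    (hY : Models.IsRegularProperModel R Y q C f) {gX : C ⟶ X} (hgX : IsPullback gX f p (toGen R))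
    {gY : C ⟶ Y} (hgY : IsPullback gY f q (toGen R)) :
    (∃ ψ : Y ⟶ X, ψ ≫ p = q ∧ gY ≫ ψ = gX) ∨ P1Fibre R X p := by
  haveI := hX.1.2.1
  haveI := hY.2.1
  haveI := isNoetherian hY
  haveI := isIntegral hC hY
  haveI := hC.2.2.1
  haveI : IsOpenImmersion gY := ArInter.isOpenImmersion_generic hgY
  let U : Y.Opens := q ⁻¹ᵁ genU R
  let a := IsOpenImmersion.isoOfRangeEq gY U.ι
    ((range_eq_of_isPullback hgY).trans (Scheme.Opens.range_ι U).symm)
  have ha : a.hom ≫ U.ι = gY := IsOpenImmersion.isoOfRangeEq_hom_fac _ _ _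
  let φ : (U : Scheme.{u}) ⟶ X := a.inv ≫ gX
  have hφ : φ ≫ p = U.ι ≫ q := by
    rw [← cancel_epi a.hom, ← Category.assoc, a.hom_inv_id_assoc, hgX.w, ← hgY.w, ← ha, Category.assoc]
  haveI : IsLocallyNoetherian (Spec (CommRingCat.of R)) := inferInstance
  obtain ⟨Z, b, h, hb, hw, hag⟩ := PointBlowUp.exists_extend_rational hY.2.2 (noChain hC hY) q p U
    ⟨gY (genericPoint C), (range_eq_of_isPullback hgY).le ⟨_, rfl⟩⟩ φ hφ
  obtain ⟨-, hbi⟩ := genIso_of_seq hb q hY.2.1
  haveI := hbi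
  obtain ⟨gZ, hgb, hgZ⟩ := gen_up b hgY
  have hZX : gZ ≫ h = gX := by
    let l := IsOpenImmersion.lift (b ⁻¹ᵁ U).ι gZ
      (((range_eq_of_isPullback hgZ).trans (Scheme.Opens.range_ι (b ⁻¹ᵁ U)).symm).le)
    have hl : l ≫ (b ⁻¹ᵁ U).ι = gZ := IsOpenImmersion.lift_fac _ _ _
    have hl' : l ≫ (b ∣_ U) = a.hom := by
      rw [← cancel_mono U.ι, Category.assoc, morphismRestrict_ι, ← Category.assoc, hl, hgb, ha]
    rw [← hl, Category.assoc, hag, ← Category.assoc, hl', a.hom_inv_id_assoc]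
  rcases exists_descend hC hH0 hX hgX hb q hY h gZ hgZ hw hZX with ⟨ψ, hψ⟩ | hP
  swap
  · exact .inr hP
  have h2 : gY ≫ ψ = gX := by rw [← hgb, Category.assoc, hψ, hZX]
  refine .inl ⟨ψ, ?_, h2⟩
  haveI : IsDominant gY := ⟨gY.isOpenEmbedding.isOpen_range.dense ⟨_, genericPoint C, rfl⟩⟩
  refine ext_of_isDominant gY ?_
  rw [← Category.assoc, h2, hgX.w, hgY.w]

end Factor

/-- Two minimal models which are not isomorphic as models: the closed fibre of the target is a line. -/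
theorem p1Fibre_of_not_iso (hC : Curve.IsSmoothProperCurve (FractionRing R) C f) (hH0 : IsIso f.appTop)
    {Y : Scheme.{u}} {q : Y ⟶ Spec (CommRingCat.of R)} (hY : Models.IsMinimalModel R Y q C f)
    (hX : Models.IsMinimalModel R X p C f) {gX : C ⟶ X} (hgX : IsPullback gX f p (toGen R))
    {gY : C ⟶ Y} (hgY : IsPullback gY f q (toGen R))
    (hne : ∀ e : Y ≅ X, e.hom ≫ p = q → gY ≫ e.hom ≠ gX) : P1Fibre R X p := by
  rcases exists_hom hC hH0 hX hY.1 hgX hgY with ⟨ψ, hw, hg⟩ | hP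
  swap
  · exact hP
  exfalso
  have hs := seq_of_hom hC hX.1 hY.1 ψ hw hgY hgX hg
  cases hs with
  | iso e => exact hne e hw hg
  | @step _ Z₁ _ E ι b r hι hE hb hr =>
    haveI := hι
    haveI := (model_of_seq hC hX.1 hr).2.1
    obtain ⟨-, -, y, hy, hrange, -⟩ := id hb
    obtain ⟨n, Γ, hΓ⟩ := exists_componentList hC hY.1 hH0
    have hEr : Set.range ι ⊆ Models.specialFibreSet R (Over.mk q) := by
      rintro _ ⟨w, rfl⟩
      show q (ι w) = IsLocalRing.closedPoint R
      rw [← hw]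
      show (r ≫ p) (b (ι w)) = IsLocalRing.closedPoint R
      have : (ι ≫ b) w ∈ Set.range ((ι ≫ b).base : E → Z₁) := ⟨w, rfl⟩
      rw [hrange] at this
      rw [show b (ι w) = y from this]
      exact closed_over (r ≫ p) hy
    obtain ⟨i, hi, -⟩ := isExcCurve_index hC hY.1 hΓ ι hE hEr
    exact hY.2 (Γ i) hi

end Groth.Agent.MinGenus0
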